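import Groth.Agent.SubHopf.LinearHull
import Groth.Prelude.Def_Hoch

/-! Projective resolutions of finite comodules over regular rings of dimension at most two. -/

set_option autoImplicit false
set_option linter.style.haveILetI false
universe u
open scoped TensorProduct
open HopfRep

noncomputable section

namespace Groth.Agent.ComodRes

variable {R : Type u} [CommRing R] {C : Type u} [AddCommGroup C] [Module R C] [Coalgebra R C]

section Flat

variable [Module.Flat R C]

theorem isSubcomod_ker_of_comp {V W : Type u} [AddCommGroup V] [Module R V] [Comod R C V]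
    [AddCommGroup W] [Module R W] (f : V →ₗ[R] W)
    (h : ∀ v, f v = 0 → f.rTensor C (Comod.coact (k := R) (A := C) v) = 0) :
    IsSubcomod (k := R) (A := C) (LinearMap.ker f) := fun v hv =>
  (Module.Flat.rTensor_exact C (LinearMap.exact_subtype_ker_map f) _).mp (h v hv)

variable {F : Type u} [AddCommGroup F] [Module R F] [Comod R C F]
  {X : Type u} [AddCommGroup X] [Module R X] (π : X →ₗ[R] F)

/-- The map whose kernel is the lift of the comodule to the induced comodule on X. -/
def liftMap : X ⊗[R] C →ₗ[R] F ⊗[R] C :=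
  (LinearMap.id - Comod.coact (k := R) (A := C) ∘ₗ (TensorProduct.rid R F).toLinearMap ∘ₗ
      (Coalgebra.counit (R := R) (A := C)).lTensor F) ∘ₗ π.rTensor C

/-- The comparison map from the lift. -/
def liftProj : X ⊗[R] C →ₗ[R] F :=
  (TensorProduct.rid R F).toLinearMap ∘ₗ (Coalgebra.counit (R := R) (A := C)).lTensor F ∘ₗ
    π.rTensor C

omit [Module.Flat R C] [Comod R C F] in
theorem rTensor_coactAux (z : X ⊗[R] C) :
    (π.rTensor C).rTensor C (Hoch.Ind.coactAux R C X z) = Hoch.Ind.coactAux R C F (π.rTensor C z) := by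
  induction z with
  | zero => simp
  | add a b ha hb => simp only [map_add, ha, hb]
  | tmul x a =>
    rw [LinearMap.rTensor_tmul, Hoch.Ind.coactAux_tmul, Hoch.Ind.coactAux_tmul]
    generalize Coalgebra.comul (R := R) a = d
    induction d with
    | zero => simp
    | add a b ha hb => simp only [TensorProduct.tmul_add, map_add, ha, hb]
    | tmul a b => simp

omit [Module.Flat R C] in
theorem coactAux_coact (v : F) :
    Hoch.Ind.coactAux R C F (Comod.coact (k := R) (A := C) v) =
      (Comod.coact (k := R) (A := C) (V := F)).rTensor C (Comod.coact (k := R) (A := C) v) := by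
  have := LinearMap.congr_fun (Comod.coassoc (k := R) (A := C) (V := F)) v
  simp only [LinearMap.comp_apply, LinearEquiv.coe_coe] at this
  change (TensorProduct.assoc R F C C).symm _ = _
  rw [LinearEquiv.symm_apply_eq]
  exact this.symm

omit [Module.Flat R C] in
theorem rid_counit_coact (v : F) :
    TensorProduct.rid R F ((Coalgebra.counit (R := R) (A := C)).lTensor F
      (Comod.coact (k := R) (A := C) v)) = v := by
  have := LinearMap.congr_fun (Comod.counit_comp (k := R) (A := C) (V := F)) v
  simp only [LinearMap.comp_apply, LinearMap.flip_apply, TensorProduct.mk_apply] at this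
  exact (congrArg _ this).trans (by simp)

omit [Module.Flat R C] in
theorem mem_ker_liftMap (z : X ⊗[R] C) :
    liftMap π z = 0 ↔ π.rTensor C z = Comod.coact (k := R) (A := C) (liftProj π z) :=
  sub_eq_zero

theorem liftMap_coact (z : X ⊗[R] C) (hz : liftMap π z = 0) :
    (liftMap π).rTensor C (Hoch.Ind.coactAux R C X z) = 0 := by
  rw [liftMap, LinearMap.rTensor_comp, LinearMap.comp_apply, rTensor_coactAux,
    (mem_ker_liftMap π z).1 hz, coactAux_coact, ← LinearMap.comp_apply, ← LinearMap.rTensor_comp]
  have h0 : (LinearMap.id - Comod.coact (k := R) (A := C) ∘ₗ (TensorProduct.rid R F).toLinearMap ∘ₗ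
      (Coalgebra.counit (R := R) (A := C)).lTensor F) ∘ₗ Comod.coact (k := R) (A := C) (V := F) = 0 :=
    LinearMap.ext fun v => by simp [rid_counit_coact]
  rw [h0, LinearMap.rTensor_zero, LinearMap.zero_apply]

theorem liftProj_coact (z : X ⊗[R] C) (hz : liftMap π z = 0) :
    (liftProj π).rTensor C (Hoch.Ind.coactAux R C X z) =
      Comod.coact (k := R) (A := C) (liftProj π z) := by
  have e : liftProj π = ((TensorProduct.rid R F).toLinearMap ∘ₗ
      (Coalgebra.counit (R := R) (A := C)).lTensor F) ∘ₗ π.rTensor C := rfl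
  rw [e, LinearMap.rTensor_comp, LinearMap.comp_apply, rTensor_coactAux, ← e,
    (mem_ker_liftMap π z).1 hz, coactAux_coact, ← LinearMap.comp_apply, ← LinearMap.rTensor_comp]
  have h0 : ((TensorProduct.rid R F).toLinearMap ∘ₗ
      (Coalgebra.counit (R := R) (A := C)).lTensor F) ∘ₗ Comod.coact (k := R) (A := C) (V := F) =
        LinearMap.id := LinearMap.ext fun v => rid_counit_coact v
  rw [h0, LinearMap.rTensor_id, LinearMap.id_apply]

omit [Module.Flat R C] in
theorem exists_lift (hπ : Function.Surjective π) (v : F) :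
    ∃ z : X ⊗[R] C, liftMap π z = 0 ∧ liftProj π z = v := by
  obtain ⟨z, hz⟩ := LinearMap.rTensor_surjective C hπ (Comod.coact (k := R) (A := C) v)
  have h : liftProj π z = v := by
    change TensorProduct.rid R F ((Coalgebra.counit (R := R) (A := C)).lTensor F (π.rTensor C z)) = v
    rw [hz, rid_counit_coact]
  exact ⟨z, (mem_ker_liftMap π z).2 (by rw [h, hz]), h⟩

end Flat

/-- A finitely generated submodule of a projective module lies in a finite free submodule of a free
module containing it. -/
theorem exists_projective_subcomod [IsRegularRing R] (hdim : ringKrullDim R ≤ 2)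
    [Module.Projective R C] {P G : Type u} [AddCommGroup P] [Module R P] [Module.Projective R P]
    [Comod R C P] [AddCommGroup G] [Module R G] [Module.Projective R G] (g : P →ₗ[R] G)
    (hg : IsSubcomod (k := R) (A := C) (LinearMap.ker g)) (M : Submodule R P) (hM : M.FG)
    (hMg : M ≤ LinearMap.ker g) :
    ∃ V : Submodule R P, IsSubcomod (k := R) (A := C) V ∧ M ≤ V ∧ V ≤ LinearMap.ker g ∧
      Module.Finite R V ∧ Module.Projective R V := by
  classical
  obtain ⟨W, hW, hMW, hWfg⟩ : ∃ W : Submodule R P, IsSubcomod (k := R) (A := C) W ∧ M ≤ W ∧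
      W.FG ∧ W ≤ LinearMap.ker g := by
    let c : Comod R C P := inferInstance
    letI := ComodSub.Comod.restr c (LinearMap.ker g) hg
    obtain ⟨W, hW, hMW, hWfg⟩ := SubHopf.exists_fg_subcomod (R := R) (C := C)
      (M.comap (LinearMap.ker g).subtype) (Submodule.fg_of_fg_map_injective _
        (LinearMap.ker g).injective_subtype (by
          rw [Submodule.map_comap_subtype, inf_eq_right.mpr hMg]; exact hM))
    refine ⟨W.map (LinearMap.ker g).subtype, ?_, ?_, hWfg.map _, Submodule.map_subtype_le _ _⟩
    · rintro _ ⟨w, hw, rfl⟩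
      obtain ⟨t, ht⟩ := hW w hw
      let e := (LinearMap.ker g).subtype.submoduleMap W
      refine ⟨e.rTensor C t, ?_⟩
      rw [← LinearMap.comp_apply, ← LinearMap.rTensor_comp,
        show (W.map (LinearMap.ker g).subtype).subtype ∘ₗ e =
          (LinearMap.ker g).subtype ∘ₗ W.subtype from rfl,
        LinearMap.rTensor_comp, LinearMap.comp_apply, ht]
      exact ComodSub.rTensor_subtype_restrCoact c _ hg w
    · intro m hm
      exact ⟨⟨m, hMg hm⟩, hMW hm, rfl⟩
  obtain ⟨i, hi⟩ : ∃ i : P →ₗ[R] (P →₀ R), (Finsupp.linearCombination R (id : P → P)) ∘ₗ i = LinearMap.id :=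
    Module.projective_lifting_property _ LinearMap.id (fun p => ⟨Finsupp.single p 1, by simp⟩)
  have hi' : Function.Injective i :=
    Function.LeftInverse.injective (g := Finsupp.linearCombination R id) fun x => LinearMap.congr_fun hi x
  obtain ⟨hWfg, hWg⟩ := hWfg
  obtain ⟨s, hs⟩ := hWfg
  let T : Finset P := s.biUnion fun m => (i m).support
  let cut : (P →₀ R) →ₗ[R] ({x : P // x ∉ T} →₀ R) := Finsupp.lsubtypeDomain {x : P | x ∉ T}
  let F₀ : Submodule R (P →₀ R) := Finsupp.supported R R (T : Set P)
  let prT : P →ₗ[R] (↥T →₀ R) :=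
    (Finsupp.lsubtypeDomain (M := R) (R := R) {x : P | x ∈ T}) ∘ₗ i
  let L := (LinearMap.ker g).subtype
  let U : Submodule R P := LinearMap.ker (g.prod (cut ∘ₗ i))
  have hUT : Function.Injective (prT ∘ₗ U.subtype) := by
    refine (injective_iff_map_eq_zero _).mpr fun x hx => ?_
    apply Subtype.ext
    apply hi'
    rw [Submodule.coe_zero, map_zero]
    refine Finsupp.ext fun p => ?_
    by_cases hp : p ∈ T
    · exact DFunLike.congr_fun hx ⟨p, hp⟩
    · exact DFunLike.congr_fun (congrArg Prod.snd (LinearMap.mem_ker.mp x.2)) ⟨p, hp⟩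
  have hUfin : Module.Finite R U := Module.Finite.of_injective _ hUT
  have hWU : W ≤ U := by
    rw [← hs, Submodule.span_le]
    intro m hm
    refine Prod.ext (hWg (hs ▸ Submodule.subset_span hm)) (Finsupp.ext fun p => ?_)
    change i m p.1 = 0
    exact Finsupp.notMem_support_iff.mp fun h => p.2 (Finset.mem_biUnion.mpr ⟨m, hm, h⟩)
  let ρ : P →ₗ[R] P ⊗[R] C := Comod.coact (k := R) (A := C)
  let gU := g.prod (cut ∘ₗ i)
  let q : P →ₗ[R] (G × ({x : P // x ∉ T} →₀ R)) ⊗[R] C := gU.rTensor C ∘ₗ ρ
  let V := LinearMap.ker q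
  have hVU : V ≤ U := by
    intro v hv
    have h := congrArg (fun z => TensorProduct.rid R _
      ((Coalgebra.counit (R := R) (A := C)).lTensor _ z)) (LinearMap.mem_ker.mp hv)
    simp only [q, LinearMap.comp_apply, map_zero] at h
    rw [← LinearMap.comp_apply, LinearMap.lTensor_comp_rTensor, ← LinearMap.rTensor_comp_lTensor,
      LinearMap.comp_apply] at h
    have hc := LinearMap.congr_fun (Comod.counit_comp (k := R) (A := C) (V := P)) v
    simp only [LinearMap.comp_apply, LinearMap.flip_apply, TensorProduct.mk_apply] at hc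
    rw [show (Coalgebra.counit (R := R) (A := C)).lTensor P (ρ v) = v ⊗ₜ 1 from hc,
      LinearMap.rTensor_tmul, TensorProduct.rid_tmul, one_smul] at h
    exact h
  have hV : IsSubcomod (k := R) (A := C) V := by
    refine isSubcomod_ker_of_comp (C := C) (W := (G × ({x : P // x ∉ T} →₀ R)) ⊗[R] C) q fun v hv => ?_
    rw [LinearMap.rTensor_comp, LinearMap.comp_apply, ← coactAux_coact, rTensor_coactAux,
      show gU.rTensor C (ρ v) = 0 from hv, map_zero]
  refine ⟨V, hV, fun m hm => ?_, fun v hv => congrArg Prod.fst (LinearMap.mem_ker.mp (hVU hv)), ?_, ?_⟩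
  · obtain ⟨t, ht⟩ := hW m (hMW hm)
    have h0 : gU ∘ₗ W.subtype = 0 := LinearMap.ext fun w => LinearMap.mem_ker.mp (hWU w.2)
    change gU.rTensor C (ρ m) = 0
    rw [show ρ m = W.subtype.rTensor C t from ht.symm, ← LinearMap.comp_apply,
      ← LinearMap.rTensor_comp, h0, LinearMap.rTensor_zero, LinearMap.zero_apply]
  · exact Module.Finite.of_injective (Submodule.inclusion hVU) (Submodule.inclusion_injective hVU)
  · haveI : Module.Projective R U := by
      let gT : (↥T →₀ R) →ₗ[R] (↥T →₀ R) × G × ({x : P // x ∉ T} →₀ R) :=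
        LinearMap.prod (LinearMap.id - prT ∘ₗ (Finsupp.linearCombination R (fun x : ↥T => (x : P))))
          (gU ∘ₗ (Finsupp.linearCombination R (fun x : ↥T => (x : P))))
      haveI := SubHopf.projective_ker hdim gT
      have hlc : ∀ x : U, Finsupp.linearCombination R (fun x : ↥T => (x : P)) (prT x) = x := fun x => by
        have hsupp : ∀ p ∈ (i (x : P)).support, p ∈ T := fun p hp => by
          by_contra hpT
          exact Finsupp.mem_support_iff.mp hp
            (DFunLike.congr_fun (congrArg Prod.snd (LinearMap.mem_ker.mp x.2)) ⟨p, hpT⟩)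
        have h2 := LinearMap.congr_fun hi (x : P)
        rw [LinearMap.comp_apply, LinearMap.id_apply, Finsupp.linearCombination_apply] at h2
        rw [Finsupp.linearCombination_apply]
        exact (Finsupp.sum_subtypeDomain_index (h := fun p a => a • p) hsupp).trans h2
      let lc : (↥T →₀ R) →ₗ[R] P := Finsupp.linearCombination R (fun x : ↥T => (x : P))
      have hk : ∀ y, y ∈ LinearMap.ker gT ↔ prT (lc y) = y ∧ gU (lc y) = 0 := fun y => by
        simp only [gT, lc, LinearMap.mem_ker, LinearMap.prod_apply, Function.prod_apply, Prod.mk_eq_zero,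
          LinearMap.sub_apply, LinearMap.id_apply, LinearMap.comp_apply, sub_eq_zero]
        exact and_congr_left' eq_comm
      refine Module.Projective.of_equiv (LinearEquiv.ofLinearMap (M := LinearMap.ker gT)
        (LinearMap.codRestrict U (lc ∘ₗ (LinearMap.ker gT).subtype) fun y => ((hk y).1 y.2).2)
        (LinearMap.codRestrict _ (prT ∘ₗ U.subtype) fun x => (hk _).2
          ⟨congrArg prT (hlc x), (congrArg gU (hlc x)).trans x.2⟩)
        (LinearMap.ext fun x => Subtype.ext (hlc x))
        (LinearMap.ext fun y => Subtype.ext ((hk y).1 y.2).1))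
    haveI := SubHopf.projective_ker hdim (G := (G × ({x : P // x ∉ T} →₀ R)) ⊗[R] C) (q ∘ₗ U.subtype)
    exact Module.Projective.of_equiv ((LinearEquiv.ofEq _ _ (LinearMap.ker_comp U.subtype q)).trans
      (Submodule.comapSubtypeEquivOfLe hVU))

end Groth.Agent.ComodRes
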