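import Groth.Agent.SubHopf.LinearHull

/-! Matrix corepresentations from finite projective comodules. -/

set_option autoImplicit false
set_option linter.style.haveILetI false
universe u
open scoped TensorProduct
open HopfRep

noncomputable section

namespace Groth.Agent.ComodRes

set_option maxHeartbeats 1000000 in
theorem exists_corep_of_projective {R : Type u} [CommRing R] [IsNoetherianRing R] {A : Type u}
    [CommRing A] [HopfAlgebra R A] [Module.Flat R A] (W : Type u) [AddCommGroup W] [Module R W]
    [Comod R A W] [Module.Finite R W] [Module.Projective R W] :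
    ∃ (d : ℕ) (a : Matrix (Fin d) (Fin d) A),
      (∀ i j, CoalgebraStruct.comul (R := R) (a i j) = ∑ l, a i l ⊗ₜ[R] a l j) ∧
      (∀ i j, CoalgebraStruct.counit (R := R) (a i j) = if i = j then 1 else 0) ∧
      ∃ u : A, u * a.det = 1 ∧ ∀ (f : Module.Dual R W) (w : W),
        TensorProduct.lid R A (f.rTensor A (Comod.coact (k := R) (A := A) w)) ∈
          Algebra.adjoin R (Set.range (fun p : Fin d × Fin d => a p.1 p.2) ∪ {u}) := by
  classical
  haveI : Module.FinitePresentation R W := Module.finitePresentation_of_finite R _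
  haveI : Module.Finite R (Module.Dual R W) := inferInstance
  obtain ⟨d, π, hπ⟩ := Module.Finite.exists_fin' R (Module.Dual R W)
  obtain ⟨s, hs⟩ := Module.projective_lifting_property π LinearMap.id hπ
  let φ : Fin d → Module.Dual R W := fun i => π (Pi.single i 1)
  let ψ : Fin d → (Module.Dual R W →ₗ[R] R) := fun l => LinearMap.proj l ∘ₗ s
  have hφψ : ∀ f : Module.Dual R W, ∑ l, ψ l f • φ l = f := fun f => by
    have h := LinearMap.congr_fun hs f
    rw [LinearMap.comp_apply, LinearMap.id_apply, pi_eq_sum_univ' (s f), map_sum] at h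
    simpa [φ, ψ] using h
  let ρ : W →ₗ[R] W ⊗[R] A := Comod.coact (k := R) (A := A)
  have hcoassoc := Comod.coassoc (k := R) (A := A) (V := W)
  have hcounit := Comod.counit_comp (k := R) (A := A) (V := W)
  let slA : Module.Dual R W → (W ⊗[R] A →ₗ[R] A) := fun f =>
    (TensorProduct.lid R A).toLinearMap ∘ₗ f.rTensor A
  let c : Module.Dual R W → (W →ₗ[R] A) := fun f => slA f ∘ₗ ρ
  have hclin : ∀ (t : Fin d → R) (w : W), c (∑ m, t m • φ m) w = ∑ m, t m • c (φ m) w := by
    intro t w
    show slA _ (ρ w) = ∑ m, t m • slA (φ m) (ρ w)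
    generalize ρ w = z
    induction z with
    | zero => simp
    | tmul x y => simp [slA, Finset.sum_smul, smul_smul]
    | add x y hx hy => simp only [map_add, smul_add, Finset.sum_add_distrib, hx, hy]
  let θ := LinearEquiv.ofBijective (dualTensorHom R W A) SubHopf.dualTensorHom_bijective_of_flat
  let Φ : Matrix (Fin d) (Fin d) A := fun i l =>
    TensorProduct.lid R A ((ψ l).rTensor A (θ.symm (c (φ i))))
  have hexp : ∀ z : Module.Dual R W ⊗[R] A,
      ∑ l, φ l ⊗ₜ[R] TensorProduct.lid R A ((ψ l).rTensor A z) = z := by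
    intro z
    induction z with
    | zero => simp
    | add x y hx hy => simp only [map_add, TensorProduct.tmul_add, Finset.sum_add_distrib, hx, hy]
    | tmul f x =>
      simp only [LinearMap.rTensor_tmul, TensorProduct.lid_tmul, ← TensorProduct.smul_tmul,
        ← TensorProduct.sum_tmul, hφψ]
  have hc : ∀ i (w : W), c (φ i) w = ∑ l, φ l w • Φ i l := fun i w => by
    conv_lhs => rw [← θ.apply_symm_apply (c (φ i)), ← hexp (θ.symm (c (φ i)))]
    simp [θ, Φ]
  let P : Matrix (Fin d) (Fin d) R := fun i l => ψ l (φ i)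
  have hPP : ∀ i j, ∑ l, P i l * P l j = P i j := fun i j => by
    have h := congrArg (ψ j) (hφψ (φ i))
    simpa [P, smul_eq_mul] using h
  have hΦP : ∀ i j, ∑ l, P l j • Φ i l = Φ i j := fun i j => by
    have h := congrArg (fun z => TensorProduct.lid R A ((ψ j).rTensor A z)) (hexp (θ.symm (c (φ i))))
    simpa [P, Φ] using h
  have hPΦ : ∀ i j, ∑ m, P i m • Φ m j = Φ i j := fun i j => by
    have h : c (φ i) = ∑ m, P i m • c (φ m) := by
      conv_lhs => rw [← hφψ (φ i)]
      refine LinearMap.ext fun w => (hclin _ w).trans ?_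
      simp [P]
    have h2 := congrArg (fun g => TensorProduct.lid R A ((ψ j).rTensor A (θ.symm g))) h
    simp only [map_sum, map_smul] at h2
    exact h2.symm
  have hεΦ : ∀ i j, Coalgebra.counit (R := R) (Φ i j) = P i j := fun i j => by
    have h1 : ∑ l, Coalgebra.counit (R := R) (Φ i l) • φ l = φ i := by
      ext w
      have hh : Coalgebra.counit (R := R) (c (φ i) w) = φ i w := by
        have hw := LinearMap.congr_fun hcounit w
        have key : ∀ z : W ⊗[R] A, Coalgebra.counit (R := R) (slA (φ i) z) =
            φ i (TensorProduct.rid R W ((Coalgebra.counit (R := R) (A := A)).lTensor W z)) := by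
          intro z
          induction z with
          | zero => simp
          | tmul x y => simp [slA, mul_comm]
          | add x y hx hy => simp only [map_add, hx, hy]
        show Coalgebra.counit (R := R) (slA (φ i) (ρ w)) = _
        rw [key]
        simp only [LinearMap.comp_apply, LinearMap.flip_apply, TensorProduct.mk_apply] at hw
        exact (congrArg (fun z => φ i (TensorProduct.rid R W z)) hw).trans (by simp)
      rw [hc, map_sum] at hh
      simpa [mul_comm] using hh
    have h2 := congrArg (ψ j) h1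
    rw [map_sum] at h2
    simp only [map_smul, smul_eq_mul] at h2
    calc Coalgebra.counit (R := R) (Φ i j) = Coalgebra.counit (R := R) (∑ l, P l j • Φ i l) := by rw [hΦP]
      _ = P i j := by
        rw [map_sum]
        simpa [P, mul_comm] using h2
  have hΔΦ : ∀ i j, Coalgebra.comul (R := R) (Φ i j) = ∑ m, Φ i m ⊗ₜ[R] Φ m j := by
    let D : Fin d → Fin d → A ⊗[R] A := fun i l =>
      Coalgebra.comul (R := R) (Φ i l) - ∑ m, Φ i m ⊗ₜ[R] Φ m l
    have hD : ∀ i (w : W), ∑ l, φ l w • D i l = 0 := by
      intro i w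
      have e1 : ∑ l, φ l w • Coalgebra.comul (R := R) (Φ i l) = Coalgebra.comul (R := R) (c (φ i) w) := by
        simp [hc]
      have hw := LinearMap.congr_fun hcoassoc w
      simp only [LinearMap.comp_apply, LinearEquiv.coe_coe] at hw
      let T₁ : W ⊗[R] (A ⊗[R] A) →ₗ[R] A ⊗[R] A :=
        (TensorProduct.lid R (A ⊗[R] A)).toLinearMap ∘ₗ (φ i).rTensor (A ⊗[R] A)
      have k1 : ∀ z : W ⊗[R] A, T₁ ((Coalgebra.comul (R := R) (A := A)).lTensor W z) =
          Coalgebra.comul (R := R) (slA (φ i) z) := by
        intro z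
        induction z with
        | zero => simp
        | tmul x y => simp [T₁, slA]
        | add x y hx hy => simp only [map_add, hx, hy]
      have k2 : ∀ z : (W ⊗[R] A) ⊗[R] A, T₁ (TensorProduct.assoc R W A A z) =
          (slA (φ i)).rTensor A z := by
        intro z
        induction z with
        | zero => simp
        | tmul x y =>
          induction x with
          | zero => simp
          | tmul x₁ x₂ => simp [T₁, slA, TensorProduct.smul_tmul']
          | add a b ha hb => simp only [TensorProduct.add_tmul, map_add, ha, hb]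
        | add x y hx hy => simp only [map_add, hx, hy]
      have k3 : ∀ z : W ⊗[R] A, (slA (φ i)).rTensor A (ρ.rTensor A z) =
          ∑ m, Φ i m ⊗ₜ[R] slA (φ m) z := by
        intro z
        induction z with
        | zero => simp
        | tmul x y =>
          rw [LinearMap.rTensor_tmul, LinearMap.rTensor_tmul]
          change c (φ i) x ⊗ₜ[R] y = _
          simp [hc, slA, TensorProduct.sum_tmul, TensorProduct.smul_tmul]
        | add x y hx hy => simp only [map_add, TensorProduct.tmul_add, Finset.sum_add_distrib, hx, hy]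
      have e2 : Coalgebra.comul (R := R) (c (φ i) w) = ∑ m, Φ i m ⊗ₜ[R] c (φ m) w := by
        calc Coalgebra.comul (R := R) (c (φ i) w)
            = T₁ ((Coalgebra.comul (R := R) (A := A)).lTensor W (ρ w)) := (k1 _).symm
          _ = T₁ (TensorProduct.assoc R W A A (ρ.rTensor A (ρ w))) := congrArg T₁ hw.symm
          _ = _ := (k2 _).trans (k3 _)
      simp only [D, smul_sub, Finset.sum_sub_distrib]
      rw [e1, e2, sub_eq_zero]
      simp only [hc, TensorProduct.tmul_sum, Finset.smul_sum, TensorProduct.tmul_smul]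
      rw [Finset.sum_comm]
    intro i j
    have hz : ∑ l, φ l ⊗ₜ[R] D i l = 0 := by
      apply (SubHopf.dualTensorHom_bijective_of_flat (R := R) (M := W) (A := A ⊗[R] A)).1
      rw [map_zero, map_sum]
      ext w
      simpa using hD i w
    have h2 := congrArg (fun z => TensorProduct.lid R (A ⊗[R] A) ((ψ j).rTensor _ z)) hz
    simp only [map_sum, LinearMap.rTensor_tmul, TensorProduct.lid_tmul, map_zero] at h2
    have h3 : ∑ l, P l j • Coalgebra.comul (R := R) (Φ i l) =
        ∑ l, P l j • ∑ m, Φ i m ⊗ₜ[R] Φ m l := by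
      rw [← sub_eq_zero, ← Finset.sum_sub_distrib]
      simpa [D, smul_sub, P] using h2
    rw [← hΦP i j, map_sum]
    simp only [map_smul]
    rw [h3]
    simp only [Finset.smul_sum, ← TensorProduct.tmul_smul]
    rw [Finset.sum_comm]
    simp only [← TensorProduct.tmul_sum, hΦP]
  let Q : Matrix (Fin d) (Fin d) R := fun i l => (if i = l then 1 else 0) - P i l
  let a : Matrix (Fin d) (Fin d) A := fun i l => Φ i l + algebraMap R A (Q i l)
  have hΦQ : ∀ i j, ∑ l, Q l j • Φ i l = 0 := fun i j => by
    simp only [Q, sub_smul, Finset.sum_sub_distrib, hΦP, ite_smul, one_smul, zero_smul,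
      Finset.sum_ite_eq', Finset.mem_univ, if_true, sub_self]
  have hQΦ : ∀ i j, ∑ m, Q i m • Φ m j = 0 := fun i j => by
    simp only [Q, sub_smul, Finset.sum_sub_distrib, hPΦ, ite_smul, one_smul, zero_smul,
      Finset.sum_ite_eq, Finset.mem_univ, if_true, sub_self]
  have hQQ : ∀ i j, ∑ l, Q i l * Q l j = Q i j := fun i j => by
    simp only [Q, sub_mul, mul_sub, Finset.sum_sub_distrib, hPP, ite_mul, mul_ite, _root_.one_mul,
      _root_.mul_one, zero_mul, mul_zero, Finset.sum_ite_eq, Finset.sum_ite_eq', Finset.mem_univ, if_true]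
    ring
  have hcomul : ∀ i j, Coalgebra.comul (R := R) (a i j) = ∑ l, a i l ⊗ₜ[R] a l j := fun i j => by
    have h1 : ∀ l, a i l ⊗ₜ[R] a l j = Φ i l ⊗ₜ[R] Φ l j + (Q l j • Φ i l) ⊗ₜ[R] (1 : A) +
        (1 : A) ⊗ₜ[R] (Q i l • Φ l j) + (Q i l * Q l j) • ((1 : A) ⊗ₜ[R] (1 : A)) := fun l => by
      simp only [a, TensorProduct.add_tmul, TensorProduct.tmul_add, Algebra.algebraMap_eq_smul_one,
        TensorProduct.smul_tmul', TensorProduct.tmul_smul, smul_smul, smul_add]
      rw [mul_comm (Q i l)]
      abel
    simp only [h1, Finset.sum_add_distrib, ← TensorProduct.sum_tmul, ← TensorProduct.tmul_sum,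
      hΦQ, hQΦ, TensorProduct.zero_tmul, TensorProduct.tmul_zero, add_zero, ← Finset.sum_smul, hQQ]
    simp only [a, map_add, hΔΦ, Algebra.algebraMap_eq_smul_one, map_smul, Bialgebra.comul_one,
      Algebra.TensorProduct.one_def]
  have hcounit' : ∀ i j, Coalgebra.counit (R := R) (a i j) = if i = j then 1 else 0 := fun i j => by
    by_cases h : i = j <;> simp [a, hεΦ, Q, h]
  refine ⟨d, a, hcomul, hcounit', ?_⟩
  let S : A →ₐ[R] A := HopfAlgebra.antipodeAlgHom R A
  have hinv : a * a.map S = 1 := by
    ext i j
    have h := HopfAlgebra.mul_antipode_lTensor_comul_apply (R := R) (a i j)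
    rw [hcomul, hcounit'] at h
    simp only [map_sum, LinearMap.lTensor_tmul, LinearMap.mul'_apply] at h
    rw [Matrix.mul_apply, Matrix.one_apply]
    refine Eq.trans ?_ (h.trans ?_)
    · rfl
    · split <;> simp
  refine ⟨(a.map S).det, by rw [mul_comm, ← Matrix.det_mul, hinv, Matrix.det_one], ?_⟩
  intro f w
  change c f w ∈ _
  rw [show c f w = c (∑ l, ψ l f • φ l) w by rw [hφψ], hclin]
  simp only [hc]
  refine Subalgebra.sum_mem _ fun i _ => Subalgebra.smul_mem _ (Subalgebra.sum_mem _ fun l _ =>
    Subalgebra.smul_mem _ ?_ _) _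
  rw [show Φ i l = a i l - algebraMap R A (Q i l) by simp [a]]
  exact sub_mem (Algebra.subset_adjoin (Or.inl ⟨(i, l), rfl⟩)) (Subalgebra.algebraMap_mem _ _)

end Groth.Agent.ComodRes
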